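import Groth.Agent.S16250
import Groth.Agent.S1321
import Groth.Agent.Lib.FormalH7.Thick
import Groth.Agent.Lib.MagFace16.Exist
import Groth.Agent.Lib.CurvOpen16.Loci
import Groth.Agent.Lib.CurveCartier25.RelDim
import Groth.Agent.Lib.AbSchRigid22.Basic
import Groth.Agent.Lib.PicTan20.Degree
import Groth.Agent.Lib.VB17.Proper
import Groth.Prelude.Def_ArtFun4
import Groth.Prelude.Def_Curve
import Groth.Prelude.Def_CurvBase

/-!
Translations of deformations of genus one curves.
-/

set_option autoImplicit false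
set_option linter.style.haveILetI false
set_option backward.isDefEq.respectTransparency false
set_option backward.isDefEq.respectTransparency.types false

universe u

open AlgebraicGeometry CategoryTheory CategoryTheory.Limits MonoidalCategory CartesianMonoidalCategory
open scoped MonObj

namespace Groth.Agent.PtTrans32

open ArtFun ArtFun.Art

variable {k : Type u} [Field k] [IsAlgClosed k] {X : Scheme.{u}} [X.Over (Spec (CommRingCat.of k))]
  (hX : Curve.IsSmoothProperCurve k X (X ↘ Spec (CommRingCat.of k))) (hg : Curv2.genus k X = 1)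
  {A : Art k k}

theorem isNilpotent_ker_res : IsNilpotent (RingHom.ker A.res.toRingHom) := by
  haveI : (RingHom.ker A.res.toRingHom).IsMaximal :=
    RingHom.ker_isMaximal_of_surjective _ A.res_surjective
  obtain ⟨N, hN⟩ := IsArtinianRing.isNilpotent_jacobson_bot (R := A)
  refine ⟨N, le_bot_iff.1 ((Ideal.pow_right_mono ?_ N).trans hN.le)⟩
  exact le_of_eq ((IsLocalRing.eq_maximalIdeal ‹_›).trans
    (IsLocalRing.jacobson_eq_maximalIdeal ⊥ bot_ne_top).symm)

theorem isThick (A : Art k k) : MoreMor.IsFiniteOrderThickening (specRes A) :=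
  ⟨Groth.Agent.MagFace16.isClosedImmersion_surjective_Spec _ A.res_surjective isNilpotent_ker_res,
    Groth.Agent.MagFace16.isNilpotent_ker_Spec _ isNilpotent_ker_res⟩

theorem factor (A : Art k k) {K : Type u} [Field K] (φ : A →+* K) :
    (φ.comp (ofBase A).toAlgHom.toRingHom).comp A.res.toRingHom = φ := by
  refine RingHom.ext fun a => ?_
  obtain ⟨N, hN⟩ := isNilpotent_ker_res (A := A)
  have hm : (ofBase A).toAlgHom (A.res a) - a ∈ RingHom.ker A.res.toRingHom := by
    rw [RingHom.mem_ker, map_sub, sub_eq_zero]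
    exact A.res.commutes (A.res a)
  have h := Ideal.pow_mem_pow hm N
  rw [hN, Ideal.zero_eq_bot, Ideal.mem_bot] at h
  have h' := congrArg φ h
  rw [map_pow, map_zero] at h'
  exact sub_eq_zero.1 ((map_sub φ _ _).symm.trans (eq_zero_of_pow_eq_zero h'))

include hX hg in
theorem euler_eq_zero (ξ : ArtFun.DefSch X (X ↘ Spec (CommRingCat.of k)) A) (s : spec A) :
    @FGA.eulerCharLE ((spec A).residueField s) _ (ξ.f.fiber s) (ξ.f.fiberOverSpecResidueField s)
      (Coh.structureModule (ξ.f.fiber s)) 1 = 0 := by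
  haveI : IsProper (X ↘ Spec (CommRingCat.of k)) := hX.1
  haveI : Smooth (X ↘ Spec (CommRingCat.of k)) := hX.2.1
  haveI : IsIntegral X := hX.2.2.1
  haveI : CompactSpace X := QuasiCompact.compactSpace_of_compactSpace (X ↘ Spec (CommRingCat.of k))
  haveI : QuasiSeparatedSpace X := quasiSeparatedSpace_of_quasiSeparated (X ↘ Spec (CommRingCat.of k))
  letI := ξ.f.fiberOverSpecResidueField s
  let φ : A →+* (spec A).residueField s := (Spec.preimage ((spec A).fromSpecResidueField s)).hom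
  let h : k →+* (spec A).residueField s := φ.comp (ofBase A).toAlgHom.toRingHom
  have hh : Spec.map (CommRingCat.ofHom h) ≫ specRes A = (spec A).fromSpecResidueField s := by
    rw [← Spec.map_comp, ← CommRingCat.ofHom_comp]
    exact (congrArg (fun ψ => Spec.map (CommRingCat.ofHom ψ)) (factor A φ)).trans
      (Spec.map_preimage _)
  have hw : ξ.f.fiberι s ≫ ξ.f = (ξ.f.fiberToSpecResidueField s ≫ Spec.map (CommRingCat.ofHom h)) ≫ specRes A := by
    rw [Category.assoc, hh]
    exact pullback.condition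
  let g : ξ.f.fiber s ⟶ X := ξ.isPullback.lift _ _ hw
  have hpb : IsPullback g (ξ.f.fiberToSpecResidueField s) (X ↘ Spec (CommRingCat.of k))
      (Spec.map (CommRingCat.ofHom h)) := by
    refine IsPullback.of_right ?_ (ξ.isPullback.lift_snd _ _ hw) ξ.isPullback
    rw [IsPullback.lift_fst, hh]
    exact IsPullback.of_hasPullback _ _
  refine (Groth.Agent.PicTan20.eulerCharLE_congr (Twist.pullbackUnitIso g).symm 1).trans
    ((Groth.Agent.PicTan20.eulerCharLE_pullback h hpb (Groth.Agent.M1.isQCoh_structureModule _) 1).trans ?_)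
  have h1 : Module.finrank k (Coh.HH X (Coh.structureModule X) 1) = 1 := hg
  simp [FGA.eulerCharLE, Finset.sum_range_succ, Groth.Agent.VB17.h0_one_of_smooth (k := k) (X := X), h1]

include hX hg in
theorem exists_translation (ξ : ArtFun.DefSch X (X ↘ Spec (CommRingCat.of k)) A)
    (σ σ' : spec A ⟶ ξ.total) (hσ : σ ≫ ξ.f = 𝟙 _) (hσ' : σ' ≫ ξ.f = 𝟙 _)
    (hres : specRes A ≫ σ = specRes A ≫ σ') :
    ∃ e : ArtFun.DefSch.Iso ξ ξ, σ ≫ e.iso.hom = σ' := by
  haveI : IsProper (X ↘ Spec (CommRingCat.of k)) := hX.1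
  haveI : Smooth (X ↘ Spec (CommRingCat.of k)) := hX.2.1
  haveI : IsIntegral X := hX.2.2.1
  haveI := (isThick A).1.1
  haveI := (isThick A).1.2
  haveI : IsLocallyNoetherian (spec A) := inferInstance
  haveI : Surjective ξ.i := MorphismProperty.of_isPullback ξ.isPullback.flip (isThick A).1.2
  haveI : IsProper ξ.f := Groth.Agent.FormalH7.isProper_of_thickening ξ.isPullback
  haveI : Smooth ξ.f := by
    haveI : Flat (ξ.f ≫ 𝟙 (spec A)) := by rw [Category.comp_id]; exact ξ.flat
    refine (Groth.Agent.S1321.result ξ.i (specRes A) (specRes A) (X ↘ Spec (CommRingCat.of k)) ξ.f (𝟙 _) (𝟙 _)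
      (isThick A) (by rw [Category.comp_id, Category.comp_id]; exact ξ.isPullback)
      (IsPullback.of_vert_isIso ⟨by simp⟩) ξ.i_f).1 inferInstance
  haveI : SmoothOfRelativeDimension 1 ξ.f := by
    rw [Groth.Agent.CurvOpen16.smoothOfRelativeDimension_one_iff]
    intro a
    obtain ⟨b, rfl⟩ := ξ.i.surjective a
    haveI := Groth.Agent.CurveCartier25.smoothOfRelativeDimension_one (X ↘ Spec (CommRingCat.of k)) hX.2.2.2
    refine ⟨⟨⊤, trivial, inferInstance⟩, ?_⟩
    rw [← Groth.Agent.FibDim14.fibreDimAt_baseChange ξ.isPullback b]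
    exact Groth.Agent.S2768.result 1 (X ↘ Spec (CommRingCat.of k)) b
  haveI : GeometricallyConnected ξ.f := Groth.Agent.AbSchRigid22.geometricallyConnected_of_section ξ.f σ hσ
    fun s => by
      haveI : Subsingleton (spec A) := ⟨fun a b => by
        obtain ⟨a', rfl⟩ := (specRes A).surjective a
        obtain ⟨b', rfl⟩ := (specRes A).surjective b
        haveI : Subsingleton (specPt k) := inferInstanceAs (Subsingleton (PrimeSpectrum k))
        rw [Subsingleton.elim a' b']⟩
      haveI : ConnectedSpace ξ.total := ξ.i.surjective.connectedSpace ξ.i.continuous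
      have : ξ.f ⁻¹' {s} = Set.univ := Set.eq_univ_of_forall fun z => Subsingleton.elim _ _
      exact ((ξ.f.fiberHomeo s).trans ((Homeomorph.setCongr this).trans (Homeomorph.Set.univ _))).symm.surjective.connectedSpace
        ((ξ.f.fiberHomeo s).trans ((Homeomorph.setCongr this).trans (Homeomorph.Set.univ _))).symm.continuous
  letI : ∀ Y : Scheme.{u}, PicGrp.Law Y := fun Y => Groth.Agent.M2.law Y
  haveI : SmoothOfRelativeDimension 1 (pullback.snd ξ.f ξ.f) :=
    (smoothOfRelativeDimension_isStableUnderBaseChange 1).of_isPullback (IsPullback.of_hasPullback ξ.f ξ.f) ‹_›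
  have hE := (Groth.Agent.S15990.result (pullback.snd ξ.f ξ.f) (pullback.diagonal ξ.f) (pullback.diagonal_snd ξ.f)).1
  have hJ := Groth.Agent.M2.isInvertible_idealMod _ hE
  obtain ⟨LΔ, hLΔ, hinv⟩ := PicGrp.exists_eq_cls (PicGrp.cls _ hJ)⁻¹
  obtain ⟨eΔ⟩ := (PicGrp.cls_mul_cls_eq_one_iff hLΔ hJ).1 (by rw [← hinv, inv_mul_cancel])
  obtain ⟨σΔ, hσΔ⟩ := Groth.Agent.Abel10.exists_locEq hE hLΔ eΔ
  have hee := euler_eq_zero hX hg ξ
  letI := Groth.Agent.S16250.law ξ.f hLΔ σ hσ hee hσΔ
  have hone : ∀ T : Over (spec A), Groth.Agent.S16250.eT ξ.f σ hσ T = 1 := fun T => by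
    refine Groth.Agent.S16250.Φ_injective ξ.f hLΔ σ hσ hee hσΔ T ?_
    have h2 := Groth.Agent.S16250.law_mul ξ.f hLΔ σ hσ hee hσΔ (1 : T ⟶ Over.mk ξ.f) 1
    rw [one_mul] at h2
    rw [left_eq_mul.1 h2]
    simp [Groth.Agent.S16250.Φ]
  let c := Groth.Agent.S16250.eT ξ.f σ' hσ'
  have hcc : ∀ {T T' : Over (spec A)} (q : T' ⟶ T), q ≫ c T = c T' :=
    fun q => Groth.Agent.S16250.eT_comp ξ.f σ' hσ' q
  let τ : Over.mk ξ.f ⟶ Over.mk ξ.f := 𝟙 _ * c (Over.mk ξ.f)
  let τ' : Over.mk ξ.f ⟶ Over.mk ξ.f := 𝟙 _ * (c (Over.mk ξ.f))⁻¹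
  have h12 : τ ≫ τ' = 𝟙 _ := by
    simp only [τ']
    rw [MonObj.comp_mul, GrpObj.comp_inv, hcc, Category.comp_id]
    exact mul_inv_cancel_right _ _
  have h21 : τ' ≫ τ = 𝟙 _ := by
    simp only [τ]
    rw [MonObj.comp_mul, hcc, Category.comp_id]
    exact inv_mul_cancel_right _ _
  let e : Over.mk ξ.f ≅ Over.mk ξ.f := ⟨τ, τ', h12, h21⟩
  let gi : Over.mk ((X ↘ Spec (CommRingCat.of k)) ≫ specRes A) ⟶ Over.mk ξ.f := Over.homMk ξ.i ξ.i_f
  have hgi : gi ≫ τ = gi := by
    have hc1 : c (Over.mk ((X ↘ Spec (CommRingCat.of k)) ≫ specRes A)) = 1 := by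
      rw [← hone]
      refine Over.OverMorphism.ext ?_
      show ((X ↘ Spec (CommRingCat.of k)) ≫ specRes A) ≫ σ' = ((X ↘ Spec (CommRingCat.of k)) ≫ specRes A) ≫ σ
      rw [Category.assoc, Category.assoc, hres]
    simp only [τ]
    rw [MonObj.comp_mul, hcc, Category.comp_id, hc1, mul_one]
  have hσe : Groth.Agent.S16250.eT ξ.f σ hσ (Over.mk (𝟙 (spec A))) ≫ τ = c (Over.mk (𝟙 (spec A))) := by
    simp only [τ]
    rw [MonObj.comp_mul, hcc, Category.comp_id, hone, one_mul]
  refine ⟨⟨(Over.forget _).mapIso e, Over.w τ, congrArg CommaMorphism.left hgi⟩, ?_⟩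
  have := congrArg CommaMorphism.left hσe
  simpa [Groth.Agent.S16250.eT, c] using this

end Groth.Agent.PtTrans32
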